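import Groth.Agent.S6620
import Groth.Agent.S12537
import Groth.Agent.H9Misc.BddInjective

/-! Injective amplitude and right adjoints of left t-exact functors. -/

set_option backward.isDefEq.respectTransparency false

universe w w' v v' u u'

open CategoryTheory CategoryTheory.Limits

namespace Groth.Agent.EtInjAmp

variable {A : Type u} [Category.{v} A] [Abelian A] [IsGrothendieckAbelian.{w} A] [HasDerivedCategory.{w'} A]

/-- No morphisms from degrees above the injective amplitude. -/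
theorem eq_zero (L : DerivedCategory.Plus A) (a : ℤ) (ha : L.IsGE a) (m : ℤ)
    (hL : ∀ (F : A) (i : ℤ), m < i → Subsingleton ((DerivedCategory.Plus.singleFunctor A 0).obj F ⟶ L⟦i⟧))
    (K : DerivedCategory.Plus A) (i : ℤ) [K.IsGE i] (hi : m < i) (φ : K ⟶ L) : φ = 0 := by
  let ι : DerivedCategory.Plus A ⥤ DerivedCategory A := DerivedCategory.Plus.ι
  have hL' : ∀ (F : A) (j : ℤ), (j < min a m ∨ m < j) →
      ∀ ψ : (DerivedCategory.singleFunctor A 0).obj F ⟶ (shiftFunctor (DerivedCategory A) j).obj (ι.obj L), ψ = 0 := by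
    intro F j hj ψ
    rcases hj with hj | hj
    · haveI : (ι.obj L).IsGE a := (DerivedCategory.Plus.isGE_ι_obj_iff L a).mpr ha
      have h1 : ((shiftFunctor (DerivedCategory A) j).obj (ι.obj L)).IsGE (a - j) :=
        DerivedCategory.TStructure.t.isGE_shift _ a j (a - j) (by omega)
      exact DerivedCategory.TStructure.t.zero_of_isLE_of_isGE ψ 0 (a - j) (by omega) inferInstance h1
    · haveI := hL F j hj
      obtain ⟨ψ', hψ'⟩ := ι.map_surjective (X := (DerivedCategory.Plus.singleFunctor A 0).obj F) (Y := L⟦j⟧)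
        (ψ ≫ ((ι.commShiftIso j).app L).inv)
      rw [Subsingleton.elim ψ' 0, Functor.map_zero] at hψ'
      rw [← cancel_mono ((ι.commShiftIso j).app L).inv, zero_comp]
      exact hψ'.symm
  obtain ⟨I, hIinj, hIzero, ⟨e⟩⟩ :=
    (Groth.Agent.S12537.result A (ι.obj L) (min a m) m (min_le_right a m)).mp hL'
  haveI : I.IsStrictlyGE (min a m) := (CochainComplex.isStrictlyGE_iff I _).mpr fun j hj => hIzero j (Or.inl hj)
  haveI := hIinj
  haveI : I.IsKInjective := CochainComplex.isKInjective_of_injective I (min a m)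
  haveI : (ι.obj K).IsGE i := inferInstance
  obtain ⟨K', hK', ⟨eK⟩⟩ := DerivedCategory.exists_iso_Q_obj_of_isGE (ι.obj K) i
  obtain ⟨ψ, hψ⟩ := H9Misc.BddInjective.lift_to_injective (eK.inv ≫ ι.map φ ≫ e.inv)
  have h0 : ψ = 0 := by
    ext j
    rcases lt_or_ge j i with hj | hj
    · exact (K'.isZero_of_isStrictlyGE i j hj).eq_of_src _ _
    · exact (hIzero j (Or.inr (by omega))).eq_of_tgt _ _
  rw [h0, Functor.map_zero] at hψ
  have h1 : ι.map φ = eK.hom ≫ (eK.inv ≫ ι.map φ ≫ e.inv) ≫ e.hom := by simp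
  rw [← hψ, zero_comp, comp_zero] at h1
  exact ι.map_injective (by rw [h1, Functor.map_zero])

theorem adjoint {B : Type u'} [Category.{v'} B] [Abelian B] [HasDerivedCategory.{w'} B]
    (Φ : DerivedCategory.Plus B ⥤ DerivedCategory.Plus A) (G : DerivedCategory.Plus A ⥤ DerivedCategory.Plus B)
    (adj : Φ ⊣ G) (hΦ : ∀ (K : DerivedCategory.Plus B) (n : ℤ), K.IsGE n → (Φ.obj K).IsGE n)
    (L : DerivedCategory.Plus A) (a : ℤ) (ha : L.IsGE a) (m : ℤ)
    (hL : ∀ (F : A) (i : ℤ), m < i → Subsingleton ((DerivedCategory.Plus.singleFunctor A 0).obj F ⟶ L⟦i⟧))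
    (F : B) (i : ℤ) (hi : m < i) :
    Subsingleton ((DerivedCategory.Plus.singleFunctor B 0).obj F ⟶ (G.obj L)⟦i⟧) := by
  let K : DerivedCategory.Plus B := ((DerivedCategory.Plus.singleFunctor B 0).obj F)⟦-i⟧
  haveI : K.IsGE i := DerivedCategory.Plus.TStructure.t.isGE_shift _ 0 (-i) i (by omega)
  haveI : (Φ.obj K).IsGE i := hΦ K i inferInstance
  haveI : Subsingleton (Φ.obj K ⟶ L) :=
    ⟨fun x y => (eq_zero L a ha m hL _ i hi x).trans (eq_zero L a ha m hL _ i hi y).symm⟩
  haveI : Subsingleton (K ⟶ G.obj L) := (adj.homEquiv K L).symm.subsingleton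
  exact @Equiv.subsingleton _ _ ((shiftEquiv (DerivedCategory.Plus B) i).symm.toAdjunction.homEquiv
    ((DerivedCategory.Plus.singleFunctor B 0).obj F) (G.obj L)).symm (inferInstanceAs (Subsingleton (K ⟶ G.obj L)))

end Groth.Agent.EtInjAmp
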